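import Groth.Agent.Lib.ZarCoh.Compare
import Mathlib.Topology.Sheaves.Abelian
import Mathlib.Topology.Maps.Basic

/-!
Cohomology along closed embeddings.
-/

set_option linter.style.haveILetI false

universe u

open CategoryTheory CategoryTheory.Limits TopologicalSpace Opposite CategoryTheory.Abelian
open Groth.Agent.Lib.ZarCoh.Basic Groth.Agent.Lib.ZarCoh.Compare

namespace Groth.Agent.H95.Units.ClosedPush

variable {X Y : TopCat.{u}} {f : X ⟶ Y} (hf : Topology.IsClosedEmbedding f)

include hf in
lemma push_preservesEpimorphisms : (CohTop.push f).PreservesEpimorphisms where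
  preserves {F G} φ hφ := by
    refine (TopCat.Sheaf.isLocallySurjective_iff_epi _).1 ?_
    refine (TopCat.Presheaf.isLocallySurjective_iff _).2 fun W t y hy => ?_
    by_cases hr : y ∈ Set.range f
    · obtain ⟨x, rfl⟩ := hr
      obtain ⟨V, hV, ⟨s, hs⟩, hxV⟩ := (TopCat.Presheaf.isLocallySurjective_iff φ.hom).1
        ((TopCat.Sheaf.isLocallySurjective_iff_epi φ).2 hφ) ((Opens.map f).obj W) t x hy
      obtain ⟨O, hO, hOV⟩ := hf.isInducing.isOpen_iff.1 V.2
      let W' : Opens Y := W ⊓ ⟨O, hO⟩
      have hW' : (Opens.map f).obj W' ≤ V := fun z hz => by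
        change z ∈ (V : Set X)
        exact (congrArg (z ∈ ·) hOV).mp (Set.mem_preimage.2 (show f z ∈ O from hz.2))
      refine ⟨W', inf_le_left, ⟨F.obj.map (homOfLE hW').op s, ?_⟩, ⟨hy, ?_⟩⟩
      · change φ.hom.app _ (F.obj.map (homOfLE hW').op s) = G.obj.map _ t
        have hnat : φ.hom.app _ (F.obj.map (homOfLE hW').op s) =
            G.obj.map (homOfLE hW').op (φ.hom.app _ s) :=
          congr($(φ.hom.naturality (homOfLE hW').op) s)
        rw [hnat, hs]
        change (G.obj.map _ ≫ G.obj.map _) t = _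
        rw [← Functor.map_comp]
        rfl
      · change x ∈ f ⁻¹' O
        rw [hOV]
        exact hxV
    · let W' : Opens Y := W ⊓ ⟨(Set.range f)ᶜ, hf.isClosed_range.isOpen_compl⟩
      refine ⟨W', inf_le_left, ⟨0, ?_⟩, ⟨hy, hr⟩⟩
      refine TopCat.Presheaf.section_ext G ((Opens.map f).obj W') _ _ fun z hz => ?_
      exact absurd (Set.mem_range_self z) hz.2

include hf in
lemma push_preservesFiniteLimits_and_colimits :
    PreservesFiniteLimits (CohTop.push f) ∧ PreservesFiniteColimits (CohTop.push f) := by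
  haveI : PreservesLimitsOfSize.{0, 0} (CohTop.push f) := (ppAdj f).rightAdjoint_preservesLimits
  haveI : PreservesFiniteLimits (CohTop.push f) :=
    PreservesLimitsOfSize.preservesFiniteLimits (CohTop.push f)
  haveI := push_preservesEpimorphisms hf
  haveI : (CohTop.push f).PreservesHomology :=
    (CohTop.push f).preservesHomology_of_preservesEpis_and_kernels
  exact ⟨inferInstance, Functor.preservesFiniteColimits_of_preservesHomology _⟩

include hf in
/-- `H^n(X, F) ≅ H^n(Y, f_* F)` for a closed embedding. -/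
theorem nonempty_addEquiv (F : CohTop.Ab X) (n : ℕ) :
    Nonempty (CohTop.H F n ≃+ CohTop.H ((CohTop.push f).obj F) n) := by
  haveI := (push_preservesFiniteLimits_and_colimits hf).1
  haveI := (push_preservesFiniteLimits_and_colimits hf).2
  let c : Zs.obj (⊤ : Opens Y) ⟶ (CohTop.push f).obj (Zs.obj (⊤ : Opens X)) :=
    (homEquiv ⊤ _).symm (gen (⊤ : Opens X))
  have hb := cmp_bijective (CohTop.push f) c (fun G => ?_)
    (fun G hG => ?_) (fun G m hG => HU_flasque G ⊤ m) n F
  · exact ⟨((hTop F n).trans (AddEquiv.ofBijective (cmp (CohTop.push f) c n F) hb)).trans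
      (hTop ((CohTop.push f).obj F) n).symm⟩
  · have : (fun g : Zs.obj (⊤ : Opens X) ⟶ G => c ≫ (CohTop.push f).map g) =
        fun g => (homEquiv (⊤ : Opens Y) ((CohTop.push f).obj G)).symm
          (homEquiv (⊤ : Opens X) G g) := by
      funext g
      apply (homEquiv _ _).injective
      refine Eq.trans ?_ (Equiv.apply_symm_apply (homEquiv (⊤ : Opens Y) ((CohTop.push f).obj G)) _).symm
      refine (homEquiv_comp c _).trans ?_
      refine (congrArg _ (Equiv.apply_symm_apply (homEquiv (⊤ : Opens Y)
        ((CohTop.push f).obj (Zs.obj (⊤ : Opens X)))) _)).trans ?_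
      exact (homEquiv_apply g).symm
    rw [this]
    exact (homEquiv (⊤ : Opens Y) _).symm.bijective.comp (homEquiv ⊤ G).bijective
  · haveI := hG
    infer_instance

end Groth.Agent.H95.Units.ClosedPush
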