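import Groth.Agent.H95.Units.Ker

/-!
Vanishing and surjectivity for the cohomology of units along nilpotent thickenings.
-/

set_option autoImplicit false
universe u
open CategoryTheory CategoryTheory.Limits AlgebraicGeometry TopologicalSpace Opposite CategoryTheory.Abelian

namespace Groth.Agent.H95.Units

variable {R : Type u} [CommRing R] [IsLocalRing R] {X : Scheme.{u}}
  {f : X ⟶ Spec (CommRingCat.of R)}

lemma subsingleton_G0 {Z₀ : Scheme.{u}} {i₀ : Z₀ ⟶ X} (hi₀ : Cuts f i₀ (IsLocalRing.maximalIdeal R))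
    (p : ℕ) (hvan : Subsingleton (Coh.HH Z₀ (Coh.structureModule Z₀) p)) :
    Subsingleton (CohTop.H (G0 i₀) p) := by
  haveI := hi₀.closed
  obtain ⟨e⟩ := ClosedPush.nonempty_addEquiv (f := i₀.base) i₀.isClosedEmbedding
    (Coh.toAb (Coh.structureModule Z₀)) p
  haveI : Subsingleton (CohTop.H (Coh.toAb (Coh.structureModule Z₀)) p) := hvan
  exact e.symm.toEquiv.subsingleton

lemma subsingleton_of_iso {T : TopCat.{u}} {F G : CohTop.Ab T} (e : F ≅ G) (p : ℕ)
    (h : Subsingleton (CohTop.H G p)) : Subsingleton (CohTop.H F p) := by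
  refine subsingleton_of_forall_eq 0 fun x => ?_
  have h1 : x.comp (Ext.mk₀ e.hom) (add_zero p) = 0 := h.elim _ _
  have h2 := congrArg (fun y : Ext.{u} _ G p => y.comp (Ext.mk₀ e.inv) (add_zero p)) h1
  simpa [Ext.comp_assoc_of_second_deg_zero, Ext.mk₀_comp_mk₀] using h2

/-- one step -/
lemma subsingleton_step [Flat f] {Z Z' Z₀ : Scheme.{u}} {i : Z ⟶ X} {i' : Z' ⟶ X} {i₀ : Z₀ ⟶ X}
    {J J' : Ideal R} {t : R} (hi : Cuts f i J) (hi' : Cuts f i' J')
    (hi₀ : Cuts f i₀ (IsLocalRing.maximalIdeal R)) (hJ : J = J' ⊔ Ideal.span {t}) (htJ : t ∉ J')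
    (hmt : ∀ x ∈ IsLocalRing.maximalIdeal R, x * t ∈ J') (hnil : IsNilpotent t) (p : ℕ)
    (hK' : Subsingleton (CohTop.H (K i') p))
    (hvan : Subsingleton (Coh.HH Z₀ (Coh.structureModule Z₀) p)) :
    Subsingleton (CohTop.H (K i) p) := by
  obtain ⟨S, hS, h₁, h₂, ⟨e₃⟩⟩ := exists_shortExact hi hi' hi₀ hJ htJ hmt hnil
  rw [← h₂]
  rw [← h₁] at hK'
  have h₃ := subsingleton_of_iso e₃ p (subsingleton_G0 hi₀ p hvan)
  refine subsingleton_of_forall_eq 0 fun ξ => ?_
  obtain ⟨y, rfl⟩ := Ext.covariant_sequence_exact₂ _ hS ξ (h₃.elim _ _)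
  rw [hK'.elim y 0, Ext.zero_comp]

set_option maxHeartbeats 4000000 in
/-- `H^p` of `1 + J O` vanishes -/
theorem subsingleton_H_K [IsArtinianRing R] [Flat f] {Z₀ : Scheme.{u}} {i₀ : Z₀ ⟶ X}
    (hi₀ : Cuts f i₀ (IsLocalRing.maximalIdeal R)) (p : ℕ)
    (hvan : Subsingleton (Coh.HH Z₀ (Coh.structureModule Z₀) p))
    {Z : Scheme.{u}} {i : Z ⟶ X} {J : Ideal R} (hi : Cuts f i J) (hJm : J ≤ IsLocalRing.maximalIdeal R) :
    Subsingleton (CohTop.H (K i) p) := by
  let P : Ideal R → Prop := fun I => I ≤ J ∧ ∀ (Z' : Scheme.{u}) (i' : Z' ⟶ X), Cuts f i' I →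
    Subsingleton (CohTop.H (K i') p)
  have h0 : P ⊥ := ⟨bot_le, fun Z' i' h' => by
    have hz := isZero_K_of_bot h' rfl
    refine subsingleton_of_forall_eq 0 fun ξ => ?_
    have h1 := ξ.comp_mk₀_id
    rw [hz.eq_of_src (𝟙 (K i')) 0] at h1
    simpa using h1.symm⟩
  obtain ⟨J', ⟨hle, hP⟩, hmax⟩ :=
    (IsWellFounded.wf (r := ((· > ·) : Ideal R → Ideal R → Prop))).has_min {I | P I} ⟨⊥, h0⟩
  rcases hle.eq_or_lt with rfl | hlt
  · exact hP Z i hi
  exfalso
  -- a new generator killed by the maximal ideal modulo `J'`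
  obtain ⟨N, hN⟩ : IsNilpotent (IsLocalRing.maximalIdeal R) := by
    rw [← IsLocalRing.jacobson_eq_maximalIdeal ⊥ bot_ne_top]
    exact IsArtinianRing.isNilpotent_jacobson_bot
  have hexists : ∃ k, IsLocalRing.maximalIdeal R ^ k * J ≤ J' := ⟨N, by rw [hN]; simp⟩
  classical
  have hk0 : Nat.find hexists ≠ 0 := fun h => by
    have := Nat.find_spec hexists
    rw [h, pow_zero, Ideal.one_eq_top, Ideal.top_mul] at this
    exact hlt.not_ge this
  obtain ⟨k, hk⟩ := Nat.exists_eq_succ_of_ne_zero hk0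
  have hnot : ¬ IsLocalRing.maximalIdeal R ^ k * J ≤ J' := Nat.find_min hexists (by omega)
  obtain ⟨t, ht, htJ⟩ := SetLike.not_le_iff_exists.1 hnot
  have htJJ : t ∈ J := Ideal.mul_le_right ht
  have hmt : ∀ x ∈ IsLocalRing.maximalIdeal R, x * t ∈ J' := fun x hx => by
    refine Nat.find_spec hexists ?_
    rw [hk, pow_succ', mul_assoc]
    exact Ideal.mul_mem_mul hx ht
  have hnil : IsNilpotent t := ⟨N, by
    have := Ideal.pow_mem_pow (hJm htJJ) N
    rw [hN] at this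
    exact this⟩
  have hgt : J' < J' ⊔ Ideal.span {t} := lt_of_le_of_ne le_sup_left fun h =>
    htJ (h ▸ Submodule.mem_sup_right (Ideal.mem_span_singleton_self t))
  refine hmax (J' ⊔ Ideal.span {t}) ⟨sup_le hle (by rwa [Ideal.span_singleton_le_iff_mem]), fun Z' i' h' => ?_⟩ hgt
  exact subsingleton_step h' (cuts_quotient J' f) hi₀ rfl htJ hmt hnil p
    (hP _ _ (cuts_quotient J' f)) hvan

/-- surjectivity from vanishing of the kernel -/
theorem map_surjective {Z : Scheme.{u}} {i : Z ⟶ X} {J : Ideal R} (hi : Cuts f i J) (q : ℕ)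
    (hK : Subsingleton (CohTop.H (K i) (q + 1))) :
    Function.Surjective (Sheaf.H.map (UnitsSh.comap i) q) := by
  haveI := epi_comap hi
  let S := ShortComplex.mk (kernel.ι (UnitsSh.comap i)) (UnitsSh.comap i) (kernel.condition _)
  have hS : S.ShortExact := { exact := ShortComplex.exact_of_f_is_kernel _ (kernelIsKernel _) }
  intro x
  obtain ⟨y, hy⟩ := Ext.covariant_sequence_exact₃ _ hS x rfl (hK.elim _ _)
  exact ⟨y, hy⟩

end Groth.Agent.H95.Units
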