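import Groth.Agent.Lib.Ideal.Comap
import Mathlib.AlgebraicGeometry.Morphisms.Flat
import Mathlib.AlgebraicGeometry.Morphisms.ClosedImmersion
import Mathlib.RingTheory.Flat.Basic
import Mathlib.LinearAlgebra.TensorProduct.Quotient

/-!
Closed subschemes of a scheme over `Spec A` cut out by ideals of `A`.
-/

set_option autoImplicit false
universe u
open CategoryTheory CategoryTheory.Limits AlgebraicGeometry TopologicalSpace Opposite

namespace Groth.Agent.H95.Units

variable {A : CommRingCat.{u}} {X : Scheme.{u}} (f : X ⟶ Spec A)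

/-- constants -/
noncomputable def α (U : X.Opens) : A →+* Γ(X, U) :=
  ((Scheme.ΓSpecIso A).inv ≫ f.appLE ⊤ U le_top).hom

lemma α_res {U V : X.Opens} (h : V ≤ U) (a : A) :
    X.presheaf.map (homOfLE h).op (α f U a) = α f V a :=
  congr($(Scheme.Hom.appLE_map f (le_top : U ≤ f ⁻¹ᵁ ⊤) (homOfLE h).op) ((Scheme.ΓSpecIso A).inv a))

/-- `i` is the closed immersion cut out by the ideal `I` of the base -/
structure Cuts {Z : Scheme.{u}} (i : Z ⟶ X) (I : Ideal A) : Prop where
  closed : IsClosedImmersion i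
  ker : ∀ V : X.affineOpens, RingHom.ker (i.app V.1).hom = Ideal.map (α f V.1) I

variable {f}

lemma Cuts.surj {Z : Scheme.{u}} {i : Z ⟶ X} {I : Ideal A} (h : Cuts f i I) (V : X.affineOpens) :
    Function.Surjective (i.app V.1) :=
  haveI := h.closed
  i.app_surjective V.1 V.2

lemma cuts_pullback_fst {B : CommRingCat.{u}} (φ : A ⟶ B) (hφ : Function.Surjective φ) :
    Cuts f (pullback.fst f (Spec.map φ)) (RingHom.ker φ.hom) := by
  haveI : IsClosedImmersion (Spec.map φ) := IsClosedImmersion.spec_of_surjective φ hφ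
  haveI : IsClosedImmersion (pullback.fst f (Spec.map φ)) := by infer_instance
  refine ⟨inferInstance, fun V => ?_⟩
  rw [← Scheme.Hom.ker_apply, Scheme.IdealSheafData.ker_fst_of_isClosedImmersion,
    Lib.Ideal.Comap.ideal_comap f _ ⟨⊤, isAffineOpen_top _⟩ V le_top, Scheme.Hom.ker_apply,
    α, CommRingCat.hom_comp, ← Ideal.map_map]
  congr 1
  have h := Scheme.ΓSpecIso_inv_naturality φ
  apply le_antisymm
  · intro x hx
    obtain ⟨a, rfl⟩ := (ConcreteCategory.bijective_of_isIso (Scheme.ΓSpecIso A).inv).2 x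
    have h1 : (Scheme.ΓSpecIso B).inv (φ a) = 0 := (congr($h a)).trans (RingHom.mem_ker.1 hx)
    have h2 : φ a = 0 := (ConcreteCategory.bijective_of_isIso (Scheme.ΓSpecIso B).inv).1
      (h1.trans (map_zero _).symm)
    exact Ideal.mem_map_of_mem _ h2
  · rw [Ideal.map_le_iff_le_comap]
    intro a ha
    refine RingHom.mem_ker.2 ((congr($h a)).symm.trans ?_)
    change (Scheme.ΓSpecIso B).inv (φ a) = 0
    rw [show φ a = 0 from ha, map_zero]

lemma cuts_residue {R : Type u} [CommRing R] [IsLocalRing R] {X : Scheme.{u}}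
    (f : X ⟶ Spec (CommRingCat.of R)) :
    Cuts f (pullback.fst f (Spec.map (CommRingCat.ofHom (IsLocalRing.residue R))))
      (IsLocalRing.maximalIdeal R) := by
  have h : RingHom.ker (CommRingCat.ofHom (IsLocalRing.residue R)).hom = IsLocalRing.maximalIdeal R :=
    IsLocalRing.ker_residue
  rw [← h]
  exact cuts_pullback_fst _ IsLocalRing.residue_surjective

lemma cuts_quotient {R : Type u} [CommRing R] (I : Ideal R) {X : Scheme.{u}}
    (f : X ⟶ Spec (CommRingCat.of R)) :
    Cuts f (pullback.fst f (Spec.map (CommRingCat.ofHom (Ideal.Quotient.mk I)))) I := by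
  have h : RingHom.ker (CommRingCat.ofHom (Ideal.Quotient.mk I)).hom = I := Ideal.mk_ker
  have h2 := cuts_pullback_fst (f := f) (CommRingCat.ofHom (Ideal.Quotient.mk I)) Ideal.Quotient.mk_surjective
  rwa [h] at h2

/-- `a` lies in `I O` on every affine open -/
def Mem (f : X ⟶ Spec A) (I : Ideal A) (U : X.Opens) (a : Γ(X, U)) : Prop :=
  ∀ (V : X.affineOpens) (h : V.1 ≤ U), X.presheaf.map (homOfLE h).op a ∈ Ideal.map (α f V.1) I

lemma Mem.mono {I J : Ideal A} (hIJ : I ≤ J) {U : X.Opens} {a : Γ(X, U)} (h : Mem f I U a) :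
    Mem f J U a := fun V hV => Ideal.map_mono hIJ (h V hV)

lemma Mem.mul_left {I : Ideal A} {U : X.Opens} {a : Γ(X, U)} (b : Γ(X, U)) (h : Mem f I U a) :
    Mem f I U (b * a) := fun V hV => by
  rw [map_mul]; exact Ideal.mul_mem_left _ _ (h V hV)

lemma Mem.res {I : Ideal A} {U W : X.Opens} (hW : W ≤ U) {a : Γ(X, U)} (h : Mem f I U a) :
    Mem f I W (X.presheaf.map (homOfLE hW).op a) := fun V hV => by
  have := h V (hV.trans hW)
  convert this using 1
  exact (congr($((X.presheaf.map_comp (homOfLE hW).op (homOfLE hV).op).symm) a))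

lemma mem_const {I : Ideal A} {x : A} (hx : x ∈ I) (U : X.Opens) : Mem f I U (α f U x) :=
  fun V hV => by rw [α_res]; exact Ideal.mem_map_of_mem _ hx

lemma mem_of_affine {I : Ideal A} (V : X.affineOpens) {a : Γ(X, V.1)}
    (h : a ∈ Ideal.map (α f V.1) I) : Mem f I V.1 a := fun W hW => by
  have h2 := Ideal.mem_map_of_mem (X.presheaf.map (homOfLE hW).op).hom h
  rw [Ideal.map_map] at h2
  convert h2 using 2
  exact RingHom.ext fun x => (α_res f hW x).symm

lemma Mem.affine {I : Ideal A} (V : X.affineOpens) {a : Γ(X, V.1)} (h : Mem f I V.1 a) :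
    a ∈ Ideal.map (α f V.1) I := by
  have := h V le_rfl
  rwa [show (homOfLE (le_rfl : V.1 ≤ V.1)).op = 𝟙 (op V.1) from rfl, CategoryTheory.Functor.map_id] at this

lemma exists_cover (U : X.Opens) : U ≤ ⨆ V : {V : X.affineOpens // V.1 ≤ U}, V.1.1 := fun x hx => by
  obtain ⟨V, hV, hxV, hle⟩ := exists_isAffineOpen_mem_and_subset (X := X) (U := U) hx
  exact Opens.mem_iSup.mpr ⟨⟨⟨V, hV⟩, hle⟩, hxV⟩

lemma eq_zero_of_mem_bot {U : X.Opens} {a : Γ(X, U)} (h : Mem f (⊥ : Ideal A) U a) : a = 0 := by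
  refine X.sheaf.eq_of_locally_eq' (fun V : {V : X.affineOpens // V.1 ≤ U} => V.1.1) U
    (fun V => homOfLE V.2) (exists_cover U) _ _ fun V => ?_
  have := h V.1 V.2
  rw [Ideal.map_bot] at this
  exact (Ideal.mem_bot.1 this).trans (map_zero (X.presheaf.map (homOfLE V.2).op).hom).symm

/-- vanishing on the closed subscheme -/
lemma Cuts.app_eq_zero_iff {Z : Scheme.{u}} {i : Z ⟶ X} {I : Ideal A} (h : Cuts f i I) {U : X.Opens}
    (a : Γ(X, U)) : i.app U a = 0 ↔ Mem f I U a := by
  constructor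
  · intro ha V hV
    rw [← h.ker, RingHom.mem_ker]
    exact (congr($(i.naturality (homOfLE hV).op) a)).trans (by simp [ha])
  · intro ha
    refine Z.sheaf.eq_of_locally_eq' (fun V : {V : X.affineOpens // V.1 ≤ U} => i ⁻¹ᵁ V.1.1) (i ⁻¹ᵁ U)
      (fun V => homOfLE (i.preimage_mono V.2)) (fun z hz => ?_) _ _ fun V => ?_
    · obtain ⟨V, hV⟩ := Opens.mem_iSup.1 (exists_cover U hz)
      exact Opens.mem_iSup.2 ⟨V, hV⟩
    · have h1 : i.app V.1.1 (X.presheaf.map (homOfLE V.2).op a) = 0 :=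
        RingHom.mem_ker.1 ((h.ker V.1).symm ▸ ha V.1 V.2)
      exact ((congr($(i.naturality (homOfLE V.2).op) a)).symm.trans h1).trans
        (map_zero (Z.presheaf.map (homOfLE (i.preimage_mono V.2)).op).hom).symm

/-- flatness: dividing by `t` -/
lemma mem_map_of_flat {R B : Type u} [CommRing R] [IsLocalRing R] [CommRing B] (φ : R →+* B)
    (hφ : φ.Flat) {J' : Ideal R} {t : R} (htJ : t ∉ J')
    (hmt : ∀ x ∈ IsLocalRing.maximalIdeal R, x * t ∈ J') {s : B} (hs : φ t * s ∈ Ideal.map φ J') :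
    s ∈ Ideal.map φ (IsLocalRing.maximalIdeal R) := by
  letI := φ.toAlgebra
  haveI : Module.Flat R B := hφ
  let μ : (R ⧸ IsLocalRing.maximalIdeal R) →ₗ[R] (R ⧸ J') :=
    Submodule.mapQ _ _ (LinearMap.mulLeft R t) fun x hx => by
      change t * x ∈ J'
      rw [mul_comm]
      exact hmt x hx
  have hμ : Function.Injective μ := by
    rw [injective_iff_map_eq_zero]
    intro x hx
    obtain ⟨x, rfl⟩ := Ideal.Quotient.mk_surjective x
    rw [Ideal.Quotient.eq_zero_iff_mem]
    by_contra hu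
    have hu' : IsUnit x := IsLocalRing.notMem_maximalIdeal.1 hu
    have h1 : t * x ∈ J' := Ideal.Quotient.eq_zero_iff_mem.1 hx
    exact htJ ((Ideal.mul_unit_mem_iff_mem J' hu').1 h1)
  have h := Module.Flat.lTensor_preserves_injective_linearMap (M := B) μ hμ
  have key : ∀ (I : Ideal R) (y : B), y ∈ Ideal.map φ I ↔
      y ⊗ₜ[R] (1 : R ⧸ I) = (0 : TensorProduct R B (R ⧸ I)) := by
    intro I y
    rw [← (TensorProduct.tensorQuotEquivQuotSMul B I).map_eq_zero_iff]
    rw [show (1 : R ⧸ I) = Ideal.Quotient.mk I 1 from rfl,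
      TensorProduct.tensorQuotEquivQuotSMul_tmul_mk, one_smul, Submodule.Quotient.mk_eq_zero,
      Ideal.smul_top_eq_map]
    rfl
  refine (key _ s).2 (h ?_)
  rw [map_zero, LinearMap.lTensor_tmul]
  have h2 : (φ t * s) ⊗ₜ[R] (1 : R ⧸ J') = (0 : TensorProduct R B (R ⧸ J')) := (key _ _).1 hs
  rw [show φ t * s = t • s from (Algebra.smul_def t s).symm, TensorProduct.smul_tmul] at h2
  convert h2 using 2
  change Ideal.Quotient.mk J' (t * 1) = Ideal.Quotient.mk J' (t * 1)
  rfl

lemma flat_α [Flat f] (V : X.affineOpens) : (α f V.1).Flat := by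
  have h1 : (f.appLE ⊤ V.1 le_top).hom.Flat :=
    HasRingHomProperty.appLE @Flat f inferInstance ⟨⊤, isAffineOpen_top _⟩ V le_top
  exact (RingHom.Flat.of_bijective (ConcreteCategory.bijective_of_isIso (Scheme.ΓSpecIso A).inv)).comp h1

end Groth.Agent.H95.Units
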