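import Groth.Prelude.Def_UnitsSh
import Groth.Prelude.Def_Coh
import Groth.Agent.H95.Units.Cuts
import Groth.Agent.H95.Units.ClosedPush
import Mathlib.RingTheory.Nilpotent.Basic
import Mathlib.RingTheory.Artinian.Ring
import Mathlib.Algebra.Homology.ShortComplex.ShortExact

/-!
The kernels `1 + I O` of units maps and their graded pieces `O_{X₀}`.
-/

set_option autoImplicit false
universe u
open CategoryTheory CategoryTheory.Limits AlgebraicGeometry TopologicalSpace Opposite

namespace Groth.Agent.H95.Units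

section Sections

variable {T : TopCat.{u}} {F G : CohTop.Ab T} (φ : F ⟶ G)

/-- sections of the kernel -/
lemma exists_kernel_section (U : Opens T) (s : F.obj.obj (op U)) (h : φ.hom.app (op U) s = 0) :
    ∃ m : (kernel φ).obj.obj (op U), (kernel.ι φ).hom.app (op U) m = s := by
  open Lib.ZarCoh.Basic in
  refine ⟨homEquiv U _ (kernel.lift φ ((homEquiv U F).symm s) ?_), ?_⟩
  · apply (homEquiv U G).injective
    rw [homEquiv_comp, Equiv.apply_symm_apply, h]
    exact (map_zero (Lib.ZarCoh.Basic.homEquiv U G (0 : Zs.obj U ⟶ G) |> fun _ =>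
      (G.obj.map (𝟙 (op U))).hom)).symm.trans (by
        rw [show (0 : Zs.obj U ⟶ G) = (0 : Zs.obj U ⟶ F) ≫ (0 : F ⟶ G) from zero_comp.symm, homEquiv_comp]
        simp)
  · rw [← homEquiv_comp, kernel.lift_ι, Equiv.apply_symm_apply]

lemma app_kernel_ι (U : Opens T) (m : (kernel φ).obj.obj (op U)) :
    φ.hom.app (op U) ((kernel.ι φ).hom.app (op U) m) = 0 :=
  congr(($(kernel.condition φ)).hom.app (op U) m)

lemma mono_app_injective [Mono φ] (U : Opens T) : Function.Injective (φ.hom.app (op U)) := by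
  open Lib.ZarCoh.Basic in
  intro a b h
  apply (homEquiv U F).symm.injective
  rw [← cancel_mono φ]
  apply (homEquiv U G).injective
  rw [homEquiv_comp, homEquiv_comp, Equiv.apply_symm_apply, Equiv.apply_symm_apply, h]

end Sections

variable {A : CommRingCat.{u}} {X : Scheme.{u}} (f : X ⟶ Spec A)

section One

variable {Z : Scheme.{u}} (i : Z ⟶ X) {I : Ideal A}

/-- the kernel of the units map -/
noncomputable abbrev K : CohTop.Ab X.toTopCat := kernel (UnitsSh.comap i)

/-- a section of the kernel, as a unit -/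
noncomputable def ev {U : X.Opens} (m : (K i).obj.obj (op U)) : Γ(X, U)ˣ :=
  UnitsSh.unitOfSect (O := X.presheaf) ((kernel.ι (UnitsSh.comap i)).hom.app (op U) m)

lemma ev_injective {U : X.Opens} {m n : (K i).obj.obj (op U)} (h : ev i m = ev i n) : m = n :=
  mono_app_injective (kernel.ι (UnitsSh.comap i)) U
    (congrArg (UnitsSh.sectOfUnit (O := X.presheaf) (U := op U)) h)

lemma ev_add {U : X.Opens} (m n : (K i).obj.obj (op U)) : ev i (m + n) = ev i m * ev i n :=
  congrArg (UnitsSh.unitOfSect (O := X.presheaf))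
    (map_add ((kernel.ι (UnitsSh.comap i)).hom.app (op U)).hom m n)

lemma ev_zero {U : X.Opens} : ev i (0 : (K i).obj.obj (op U)) = 1 :=
  congrArg (UnitsSh.unitOfSect (O := X.presheaf))
    (map_zero ((kernel.ι (UnitsSh.comap i)).hom.app (op U)).hom)

lemma ev_res {U V : X.Opens} (h : V ≤ U) (m : (K i).obj.obj (op U)) :
    (ev i ((K i).obj.map (homOfLE h).op m) : Γ(X, V)) =
      X.presheaf.map (homOfLE h).op (ev i m : Γ(X, U)) :=
  congrArg (fun s => (UnitsSh.unitOfSect (O := X.presheaf) (U := op V) s : Γ(X, V)))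
    (congr($((kernel.ι (UnitsSh.comap i)).hom.naturality (homOfLE h).op) m))

variable {f i} (hi : Cuts f i I)

include hi in
lemma mem_ev_sub_one {U : X.Opens} (m : (K i).obj.obj (op U)) : Mem f I U ((ev i m : Γ(X, U)) - 1) := by
  rw [← hi.app_eq_zero_iff, map_sub, map_one, sub_eq_zero]
  exact congrArg (fun t => (UnitsSh.unitOfSect (X := X.toTopCat) (O := (i.base _* Z.presheaf))
    (U := op U) t).val) (app_kernel_ι (UnitsSh.comap i) U m)

include hi in
lemma exists_ev {U : X.Opens} (v : Γ(X, U)ˣ) (hv : Mem f I U ((v : Γ(X, U)) - 1)) :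
    ∃ m : (K i).obj.obj (op U), ev i m = v := by
  have h1 : i.app U (v : Γ(X, U)) = 1 := by
    have := (hi.app_eq_zero_iff _).2 hv
    rwa [map_sub, map_one, sub_eq_zero] at this
  obtain ⟨m, hm⟩ := exists_kernel_section (UnitsSh.comap i) U
    (UnitsSh.sectOfUnit (O := X.presheaf) (U := op U) v)
    (congrArg (UnitsSh.sectOfUnit (X := X.toTopCat) (O := (i.base _* Z.presheaf)) (U := op U))
      (Units.ext h1))
  exact ⟨m, congrArg (UnitsSh.unitOfSect (O := X.presheaf)) hm⟩

include hi in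
/-- units lift locally -/
lemma epi_comap : Epi (UnitsSh.comap i) := by
  haveI := hi.closed
  refine (TopCat.Sheaf.isLocallySurjective_iff_epi _).1 ?_
  refine (TopCat.Presheaf.isLocallySurjective_iff _).2 fun W t x hx => ?_
  let v : Γ(Z, i ⁻¹ᵁ W)ˣ := UnitsSh.unitOfSect (X := X.toTopCat) (O := (i.base _* Z.presheaf)) (U := op W) t
  by_cases hr : x ∈ Set.range i
  · obtain ⟨z, rfl⟩ := hr
    obtain ⟨V, hV, hxV, hle⟩ := exists_isAffineOpen_mem_and_subset (X := X) (U := W) hx
    obtain ⟨a, ha⟩ := hi.surj ⟨V, hV⟩ (Z.presheaf.map (homOfLE (i.preimage_mono hle)).op v)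
    have hza : z ∈ Z.basicOpen (i.app V a) := by
      rw [ha, Z.basicOpen_res]
      exact ⟨hxV, by rw [Z.basicOpen_of_isUnit v.isUnit]; exact hx⟩
    rw [← Scheme.preimage_basicOpen] at hza
    have hDW : X.basicOpen a ≤ W := (X.basicOpen_le a).trans hle
    have hu := RingedSpace.isUnit_res_basicOpen X.toRingedSpace a
    obtain ⟨w, hw⟩ : ∃ w : Γ(X, X.basicOpen a)ˣ, (w : Γ(X, X.basicOpen a)) =
        X.presheaf.map (homOfLE (X.basicOpen_le a)).op a := ⟨hu.unit, hu.unit_spec⟩
    refine ⟨X.basicOpen a, hDW, ⟨UnitsSh.sectOfUnit (O := X.presheaf) (U := op (X.basicOpen a)) w, ?_⟩, hza⟩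
    refine congrArg (UnitsSh.sectOfUnit (X := X.toTopCat) (O := (i.base _* Z.presheaf))
      (U := op (X.basicOpen a))) (Units.ext ?_)
    change i.app (X.basicOpen a) (w : Γ(X, X.basicOpen a)) =
      Z.presheaf.map ((Opens.map i.base).map (homOfLE hDW)).op (v : Γ(Z, i ⁻¹ᵁ W))
    rw [hw]
    refine (congr($(i.naturality (homOfLE (X.basicOpen_le a)).op) a)).trans ?_
    change Z.presheaf.map _ (i.app V a) = _
    rw [ha]
    change (Z.presheaf.map _ ≫ Z.presheaf.map _) (v : Γ(Z, i ⁻¹ᵁ W)) = _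
    rw [← Functor.map_comp]
    rfl
  · let W' : X.Opens := W ⊓ ⟨(Set.range i)ᶜ, i.isClosedEmbedding.isClosed_range.isOpen_compl⟩
    refine ⟨W', inf_le_left, ⟨0, ?_⟩, ⟨hx, hr⟩⟩
    refine TopCat.Presheaf.section_ext (UnitsSh.unitsAb Z) ((Opens.map i.base).obj W') _ _ fun z hz => ?_
    exact absurd (Set.mem_range_self z) hz.2

include hi in
lemma isZero_K_of_bot (h : I = ⊥) : IsZero (K i) := by
  subst h
  rw [IsZero.iff_id_eq_zero]
  ext U m
  refine ev_injective i (U := U.unop) ?_
  refine Eq.trans (Units.ext ?_) (ev_zero i).symm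
  exact sub_eq_zero.1 (eq_zero_of_mem_bot (mem_ev_sub_one hi _))

end One

section Step

variable {R : Type u} [CommRing R] [IsLocalRing R] {X : Scheme.{u}}
  {f : X ⟶ Spec (CommRingCat.of R)} [Flat f]
  {Z Z' Z₀ : Scheme.{u}} {i : Z ⟶ X} {i' : Z' ⟶ X} {i₀ : Z₀ ⟶ X} {J J' : Ideal R} {t : R}
  (hi : Cuts f i J) (hi' : Cuts f i' J') (hi₀ : Cuts f i₀ (IsLocalRing.maximalIdeal R))
  (hJ : J = J' ⊔ Ideal.span {t}) (htJ : t ∉ J')
  (hmt : ∀ x ∈ IsLocalRing.maximalIdeal R, x * t ∈ J') (hnil : IsNilpotent t)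

include hi hi' hJ in
lemma exists_incl : ∃ κ : K i' ⟶ K i, κ ≫ kernel.ι (UnitsSh.comap i) = kernel.ι (UnitsSh.comap i') := by
  refine ⟨kernel.lift _ (kernel.ι (UnitsSh.comap i')) ?_, kernel.lift_ι _ _ _⟩
  apply Sheaf.hom_ext
  ext ⟨U⟩ m
  refine congrArg (UnitsSh.sectOfUnit (X := X.toTopCat) (O := (i.base _* Z.presheaf)) (U := op U))
    (Units.ext (?_ : i.app U (ev i' m : Γ(X, U)) = 1))
  have h1 := (hi.app_eq_zero_iff _).2 ((mem_ev_sub_one hi' (U := U) m).mono (hJ ▸ le_sup_left))
  rwa [map_sub, map_one, sub_eq_zero] at h1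

/-- the sheaf `i₀_* O` -/
noncomputable abbrev G0 (i₀ : Z₀ ⟶ X) : CohTop.Ab X.toTopCat :=
  (CohTop.push i₀.base).obj (Coh.toAb (Coh.structureModule Z₀))

/-- restriction to the closed fibre -/
noncomputable def rho (i₀ : Z₀ ⟶ X) : Coh.toAb (Coh.structureModule X) ⟶ G0 i₀ :=
  ⟨{ app := fun U => AddCommGrpCat.ofHom (i₀.app U.unop).hom.toAddMonoidHom
     naturality := fun U V g => by
       ext s
       exact congr($(i₀.naturality g) s) }⟩

include hi₀ in
lemma epi_rho : Epi (rho i₀) := by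
  haveI := hi₀.closed
  refine (TopCat.Sheaf.isLocallySurjective_iff_epi _).1 ?_
  refine (TopCat.Presheaf.isLocallySurjective_iff _).2 fun W t x hx => ?_
  obtain ⟨V, hV, hxV, hle⟩ := exists_isAffineOpen_mem_and_subset (X := X) (U := W) hx
  obtain ⟨a, ha⟩ := hi₀.surj ⟨V, hV⟩ (Z₀.presheaf.map (homOfLE (i₀.preimage_mono hle)).op t)
  exact ⟨V, hle, ⟨a, ha⟩, hxV⟩

include hi hi' hi₀ hJ htJ hmt hnil in
/-- `0 → K' → K → i₀_* O → 0` -/
theorem exists_shortExact :
    ∃ S : ShortComplex (CohTop.Ab X.toTopCat), S.ShortExact ∧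
      S.X₁ = K i' ∧ S.X₂ = K i ∧ Nonempty (S.X₃ ≅ G0 i₀) := by
  obtain ⟨κ, hκ⟩ := exists_incl hi hi' hJ
  haveI : Mono κ := by
    haveI : Mono (κ ≫ kernel.ι (UnitsSh.comap i)) := hκ ▸ inferInstance
    exact mono_of_mono κ (kernel.ι (UnitsSh.comap i))
  let S : ShortComplex (CohTop.Ab X.toTopCat) := ShortComplex.mk κ (cokernel.π κ) (cokernel.condition κ)
  have hS : S.ShortExact := { exact := ShortComplex.exact_cokernel κ }
  have hevκ : ∀ {U : X.Opens} (m : (K i').obj.obj (op U)), ev i (κ.hom.app (op U) m) = ev i' m :=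
    fun {U} m => congrArg (UnitsSh.unitOfSect (O := X.presheaf)) (congr(($hκ).hom.app (op U) m))
  have hq : ∀ {U : X.Opens} (m : (K i').obj.obj (op U)),
      (cokernel.π κ).hom.app (op U) (κ.hom.app (op U) m) = 0 := fun {U} m =>
    congr(($(cokernel.condition κ)).hom.app (op U) m)
  have htJ'' : t ∈ J := hJ ▸ Submodule.mem_sup_right (Ideal.mem_span_singleton_self t)
  have htm : t ∈ IsLocalRing.maximalIdeal R := fun hu => hnil.not_isUnit hu
  -- `1 + t s` as sections of `K i`
  have hlift : ∀ (U : X.Opens) (s : Γ(X, U)), ∃ m : (K i).obj.obj (op U),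
      (ev i m : Γ(X, U)) = 1 + α f U t * s := fun U s => by
    have hu : IsUnit (1 + α f U t * s) :=
      ((Commute.all _ s).isNilpotent_mul_right (hnil.map (α f U))).isUnit_one_add
    obtain ⟨m, hm⟩ := exists_ev hi hu.unit (by
      rw [hu.unit_spec, add_sub_cancel_left, mul_comm]
      exact (mem_const htJ'' U).mul_left s)
    exact ⟨m, by rw [hm, hu.unit_spec]⟩
  choose l hl using hlift
  -- congruence criterion
  have hcong : ∀ {U : X.Opens} (m n : (K i).obj.obj (op U)),
      Mem f J' U ((ev i m : Γ(X, U)) - ev i n) →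
      (cokernel.π κ).hom.app (op U) m = (cokernel.π κ).hom.app (op U) n := fun {U} m n h => by
    obtain ⟨d, hd⟩ := exists_ev hi' ((ev i n)⁻¹ * ev i m) (by
      have h2 := h.mul_left (((ev i n)⁻¹ : Γ(X, U)ˣ) : Γ(X, U))
      rwa [mul_sub, Units.inv_mul] at h2)
    have hm : m = n + κ.hom.app (op U) d := ev_injective i (by
      rw [ev_add, hevκ, hd, mul_inv_cancel_left])
    rw [hm, map_add, hq, add_zero]
  have htt : t * t ∈ J' := hmt t htm
  have hadd : ∀ (U : X.Opens) (a b : Γ(X, U)), (cokernel.π κ).hom.app (op U) (l U (a + b)) =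
      (cokernel.π κ).hom.app (op U) (l U a) + (cokernel.π κ).hom.app (op U) (l U b) := fun U a b => by
    refine Eq.trans ?_ (map_add ((cokernel.π κ).hom.app (op U)).hom _ _)
    refine hcong _ _ ?_
    rw [ev_add, Units.val_mul, hl, hl, hl]
    have h3 := (mem_const (f := f) htt U).mul_left (-a * b)
    convert h3 using 1
    rw [map_mul]
    ring
  have hnat : ∀ {U V : X.Opens} (h : V ≤ U) (s : Γ(X, U)),
      l V (X.presheaf.map (homOfLE h).op s) = (K i).obj.map (homOfLE h).op (l U s) := fun {U V} h s => by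
    refine ev_injective i (Units.ext ?_)
    refine Eq.trans ?_ (ev_res i h (l U s)).symm
    rw [hl, hl, map_add, map_one, map_mul, α_res]
  let χ : Coh.toAb (Coh.structureModule X) ⟶ cokernel κ := ⟨
    { app := fun U => AddCommGrpCat.ofHom (AddMonoidHom.mk'
        (fun s => (cokernel.π κ).hom.app U (l U.unop s)) fun a b => hadd U.unop a b)
      naturality := fun U V g => by
        ext s
        exact (congrArg ((cokernel.π κ).hom.app V) (hnat g.unop.le s)).trans
          (congr($((cokernel.π κ).hom.naturality g) (l U.unop s))) }⟩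
  haveI := epi_rho hi₀
  let S₀ : ShortComplex (CohTop.Ab X.toTopCat) :=
    ShortComplex.mk (kernel.ι (rho i₀)) (rho i₀) (kernel.condition _)
  have hS₀ : S₀.ShortExact := { exact := ShortComplex.exact_of_f_is_kernel _ (kernelIsKernel _) }
  have hker : kernel.ι (rho i₀) ≫ χ = 0 := by
    apply Sheaf.hom_ext
    ext ⟨U⟩ m
    let s : Γ(X, U) := (kernel.ι (rho i₀)).hom.app (op U) m
    have hs : Mem f (IsLocalRing.maximalIdeal R) U s :=
      (hi₀.app_eq_zero_iff s).1 (app_kernel_ι (rho i₀) U m)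
    change (cokernel.π κ).hom.app (op U) (l U s) = 0
    rw [hcong (l U s) 0 ?_, map_zero]
    rw [ev_zero, hl, Units.val_one, add_sub_cancel_left]
    intro V hV
    rw [map_mul, α_res]
    have h1 := hs V hV
    have h2 : Ideal.map (α f V.1) (IsLocalRing.maximalIdeal R) * Ideal.span {α f V.1 t} ≤
        Ideal.map (α f V.1) J' := by
      rw [← Set.image_singleton, ← Ideal.map_span, ← Ideal.map_mul]
      refine Ideal.map_mono (Ideal.mul_le.2 fun x hx y hy => ?_)
      obtain ⟨c, rfl⟩ := Ideal.mem_span_singleton'.1 hy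
      rw [mul_comm c t, ← mul_assoc]
      exact Ideal.mul_mem_right _ _ (hmt x hx)
    rw [mul_comm]
    exact h2 (Ideal.mul_mem_mul h1 (Ideal.mem_span_singleton_self _))
  obtain ⟨g, hg⟩ := CokernelCofork.IsColimit.desc' hS₀.gIsCokernel χ hker
  have hgapp : ∀ (U : X.Opens) (s : Γ(X, U)),
      g.hom.app (op U) (i₀.app U s) = (cokernel.π κ).hom.app (op U) (l U s) := fun U s =>
    congr(($hg).hom.app (op U) s)
  haveI : Mono g := by
    suffices hinj : ∀ W : X.Opens, Function.Injective (g.hom.app (op W)) by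
      refine ⟨fun a b hab => ?_⟩
      apply Sheaf.hom_ext
      ext W x
      exact hinj W.unop (congr(($hab).hom.app W x))
    intro W
    rw [injective_iff_map_eq_zero]
    intro z hz
    refine Z₀.sheaf.eq_of_locally_eq' (fun V : {V : X.affineOpens // V.1 ≤ W} => i₀ ⁻¹ᵁ V.1.1) (i₀ ⁻¹ᵁ W)
      (fun V => homOfLE (i₀.preimage_mono V.2)) (fun y hy => ?_) _ _ fun V => ?_
    · obtain ⟨V, hV⟩ := Opens.mem_iSup.1 (exists_cover W hy)
      exact Opens.mem_iSup.2 ⟨V, hV⟩
    · refine Eq.trans ?_ (map_zero (Z₀.presheaf.map (homOfLE (i₀.preimage_mono V.2)).op).hom).symm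
      obtain ⟨s, hs⟩ := hi₀.surj V.1 (Z₀.presheaf.map (homOfLE (i₀.preimage_mono V.2)).op z)
      have h0 : (cokernel.π κ).hom.app (op V.1.1) (l V.1.1 s) = 0 := by
        rw [← hgapp, hs]
        exact (congr($(g.hom.naturality (homOfLE V.2).op) z)).trans
          ((congrArg _ hz).trans (map_zero ((cokernel κ).obj.map (homOfLE V.2).op).hom))
      obtain ⟨d, hd⟩ := exists_kernel_section (cokernel.π κ) V.1.1 _ h0
      have hexact := hS.exact
      -- `κ` is the kernel of the projection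
      let e := hS.fIsKernel.conePointUniqueUpToIso (kernelIsKernel (cokernel.π κ))
      have he : e.inv ≫ κ = kernel.ι (cokernel.π κ) :=
        IsLimit.conePointUniqueUpToIso_inv_comp _ _ WalkingParallelPair.zero
      have hd' : κ.hom.app (op V.1.1) (e.inv.hom.app (op V.1.1) d) = l V.1.1 s :=
        (congr(($he).hom.app (op V.1.1) d)).trans hd
      have h1 := mem_ev_sub_one hi' (e.inv.hom.app (op V.1.1) d)
      rw [← hevκ, hd', hl, add_sub_cancel_left] at h1
      have h2 : s ∈ RingHom.ker (i₀.app V.1.1).hom :=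
        (hi₀.ker V.1).symm ▸ mem_map_of_flat _ (flat_α V.1) htJ hmt (h1.affine V.1)
      exact hs.symm.trans (RingHom.mem_ker.1 h2)
  haveI : Epi g := by
    haveI : Epi χ := by
      refine (TopCat.Sheaf.isLocallySurjective_iff_epi _).1 ?_
      refine (TopCat.Presheaf.isLocallySurjective_iff _).2 fun W c x hx => ?_
      obtain ⟨W₁, hW₁, ⟨m, hm⟩, hxW₁⟩ := (TopCat.Presheaf.isLocallySurjective_iff (cokernel.π κ).hom).1
        ((TopCat.Sheaf.isLocallySurjective_iff_epi (cokernel.π κ)).2 coequalizer.π_epi) W c x hx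
      obtain ⟨V, hV, hxV, hle⟩ := exists_isAffineOpen_mem_and_subset (X := X) (U := W₁) hxW₁
      let m' : (K i).obj.obj (op V) := (K i).obj.map (homOfLE hle).op m
      have h1 := (mem_ev_sub_one hi m').affine ⟨V, hV⟩
      rw [hJ, Ideal.map_sup, Ideal.map_span, Set.image_singleton, Submodule.mem_sup] at h1
      obtain ⟨y, hy, z, hz, hyz⟩ := h1
      obtain ⟨s, rfl⟩ := Ideal.mem_span_singleton'.1 hz
      refine ⟨V, hle.trans hW₁, ⟨s, ?_⟩, hxV⟩
      change (cokernel.π κ).hom.app (op V) (l V s) = (cokernel κ).obj.map _ c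
      have h2 : (cokernel.π κ).hom.app (op V) (l V s) = (cokernel.π κ).hom.app (op V) m' := by
        refine hcong _ _ ?_
        have h3 := (mem_of_affine (f := f) (I := J') ⟨V, hV⟩ hy).mul_left (-1)
        convert h3 using 1
        rw [hl]
        linear_combination hyz
      refine h2.trans ((congr($((cokernel.π κ).hom.naturality (homOfLE hle).op) m)).trans ?_)
      change (cokernel κ).obj.map _ ((cokernel.π κ).hom.app (op W₁) m) = _
      rw [hm]
      exact (congr($(((cokernel κ).obj.map_comp (homOfLE hW₁).op (homOfLE hle).op).symm) c))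
    have hg' : rho i₀ ≫ g = χ := hg
    exact epi_of_epi_fac hg'
  haveI : IsIso g := isIso_of_mono_of_epi g
  exact ⟨S, hS, rfl, rfl, ⟨(asIso g).symm⟩⟩

end Step

end Groth.Agent.H95.Units
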